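import Cfsg.Agent.H282.SK.Tools
import Cfsg.Prelude.Def_Classification2
import Cfsg.Prelude.Def_LieTypeChar
import Cfsg.Agent.S0822
import Cfsg.Agent.Prune
set_option linter.all false
prune_inst 0x7f00000000000000000000000000000000000000000000000000000000000000000000000000000000000000000000000000000000000000000000000000000000000000000000000000000000000000003fffffffffffffffffffffffffffbeffbdffffffff
open scoped Cfsg.Agent.FastGrp

/-!
# S3010: the list of rows and the assembly (helper731)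

`Rows` collects what is to be proved: no minimal counterexample `Cx V K` has `K` in one of the families.
`cx_false` : the rows imply that there is no minimal counterexample.
-/

set_option autoImplicit false

universe u

open Subgroup Cfsg Cfsg.Agent.H282.SK

namespace Cfsg.Agent.H731.SK

/-! ### the rows -/

/-- `K ≅ PSL_n(q)`, `q` even -/
def PslEven (K : Type u) [Group K] : Prop :=
  ∃ (F : Type) (_ : Field F) (_ : Fintype F) (_ : CharP F 2) (n : ℕ),
    2 ≤ n ∧ (n = 2 → 4 ≤ Fintype.card F) ∧ Nonempty (K ≃* Matrix.ProjectiveSpecialLinearGroup (Fin n) F)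

/-- `K ≅ PSp_2m(q)`, `q` even -/
def PspEven (K : Type u) [Group K] : Prop :=
  ∃ (F : Type) (_ : Field F) (_ : Fintype F) (_ : CharP F 2) (m : ℕ),
    2 ≤ m ∧ (m = 2 → 4 ≤ Fintype.card F) ∧ Nonempty (K ≃* PSp m F)

/-- `K ≅ PSU_n(q)`, `q` even, not `PSU_4(2) ≅ PSp_4(3)` -/
def PsuEven (K : Type u) [Group K] : Prop :=
  ∃ (F : Type) (_ : Field F) (_ : Fintype F) (_ : CharP F 2) (n q : ℕ),
    Fintype.card F = q ^ 2 ∧ Even q ∧ 3 ≤ n ∧ ¬ (n = 3 ∧ q = 2) ∧ ¬ (n = 4 ∧ q = 2) ∧ Nonempty (K ≃* PSU n F q)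

/-- `K ≅ PΩ⁺_2m(q)`, `q` even -/
def PlusEven (K : Type u) [Group K] : Prop :=
  ∃ (F : Type) (_ : Field F) (_ : Fintype F) (_ : CharP F 2) (m : ℕ),
    4 ≤ m ∧ Nonempty (K ≃* POmega F (quadFormPlus m F))

/-- `K ≅ PΩ⁻_2m(q)`, `q` even -/
def MinusEven (K : Type u) [Group K] : Prop :=
  ∃ (F : Type) (_ : Field F) (_ : Fintype F) (_ : CharP F 2) (m : ℕ) (a b : F),
    4 ≤ m ∧ (∀ z₁ z₂ : F, z₁ ^ 2 + a * z₁ * z₂ + b * z₂ ^ 2 = 0 → z₁ = 0 ∧ z₂ = 0) ∧
    Nonempty (K ≃* POmega F (quadFormMinus (m - 1) F a b))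

/-- `K ≅ G₂(q)`, `q ≥ 4` even -/
def GTwoEven (K : Type u) [Group K] : Prop :=
  ∃ (F : Type) (_ : Field F) (_ : Fintype F) (_ : CharP F 2), 4 ≤ Fintype.card F ∧ Nonempty (K ≃* Lie.chevG2.group F)

/-- `K ≅ F₄(q)`, `q` even -/
def FFourEven (K : Type u) [Group K] : Prop :=
  ∃ (F : Type) (_ : Field F) (_ : Fintype F) (_ : CharP F 2), Nonempty (K ≃* Lie.chevF4.group F)

/-- `K ≅ E₆(q)`, `q` even -/
def ESixEven (K : Type u) [Group K] : Prop :=
  ∃ (F : Type) (_ : Field F) (_ : Fintype F) (_ : CharP F 2), Nonempty (K ≃* Lie.chevE6.group F)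

/-- `K ≅ E₇(q)`, `q` even -/
def ESevenEven (K : Type u) [Group K] : Prop :=
  ∃ (F : Type) (_ : Field F) (_ : Fintype F) (_ : CharP F 2), Nonempty (K ≃* Lie.chevE7.group F)

/-- `K ≅ E₈(q)`, `q` even -/
def EEightEven (K : Type u) [Group K] : Prop :=
  ∃ (F : Type) (_ : Field F) (_ : Fintype F) (_ : CharP F 2), Nonempty (K ≃* Lie.chevE8.group F)

/-- `K ≅ ²E₆(q)`, `q` even -/
def TwESixEven (K : Type u) [Group K] : Prop :=
  ∃ (F : Type) (_ : Field F) (_ : Fintype F) (_ : CharP F 2) (q : ℕ), IsPrimePow q ∧ Fintype.card F = q ^ 2 ∧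
    Nonempty (K ≃* Lie.twistedE6 F q)

/-- `K ≅ ³D₄(q)`, `q` even -/
def TwDFourEven (K : Type u) [Group K] : Prop :=
  ∃ (F : Type) (_ : Field F) (_ : Fintype F) (_ : CharP F 2) (q : ℕ), IsPrimePow q ∧ Fintype.card F = q ^ 3 ∧
    Nonempty (K ≃* Lie.twistedD4 F q)

/-- **What is to be proved.** -/
structure Rows : Prop where
  alt : DeadS.{u} fun K _ => IsAlternating K
  odd : ∀ p : ℕ, p.Prime → p ≠ 2 → DeadS.{u} fun K _ => IsLieTypeChar p K ∧ ¬ PslEven K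
  psl : DeadS.{u} fun K _ => PslEven K
  psp : DeadS.{u} fun K _ => PspEven K
  psu : DeadS.{u} fun K _ => PsuEven K
  plus : DeadS.{u} fun K _ => PlusEven K
  minus : DeadS.{u} fun K _ => MinusEven K
  g2 : DeadS.{u} fun K _ => GTwoEven K
  f4 : DeadS.{u} fun K _ => FFourEven K
  e6 : DeadS.{u} fun K _ => ESixEven K
  e7 : DeadS.{u} fun K _ => ESevenEven K
  e8 : DeadS.{u} fun K _ => EEightEven K
  twE6 : DeadS.{u} fun K _ => TwESixEven K
  twD4 : DeadS.{u} fun K _ => TwDFourEven K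
  sz : DeadS.{u} fun K _ => Lie.IsoSuzuki K
  twF4 : DeadS.{u} fun K _ => Lie.Iso2F4 K
  tits : DeadS.{u} fun K _ => Lie.IsoTits K
  m11 : DeadS.{u} fun K _ => Spor.IsoM11 K
  m12 : DeadS.{u} fun K _ => Spor.IsoM12 K
  m22 : DeadS.{u} fun K _ => Spor.IsoM22 K
  m23 : DeadS.{u} fun K _ => Spor.IsoM23 K
  m24 : DeadS.{u} fun K _ => Spor.IsoM24 K
  j1 : DeadS.{u} fun K _ => Spor.IsoJ1 K
  j2 : DeadS.{u} fun K _ => Spor.IsoJ2 K
  j3 : DeadS.{u} fun K _ => Spor.IsoJ3 K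
  j4 : DeadS.{u} fun K _ => Spor.IsoJ4 K
  co1 : DeadS.{u} fun K _ => Spor.IsoCo1 K
  co2 : DeadS.{u} fun K _ => Spor.IsoCo2 K
  co3 : DeadS.{u} fun K _ => Spor.IsoCo3 K
  mcl : DeadS.{u} fun K _ => Spor.IsoMcL K
  hs : DeadS.{u} fun K _ => Spor.IsoHS K
  suz : DeadS.{u} fun K _ => Spor.IsoSuz K
  he : DeadS.{u} fun K _ => Spor.IsoHe K
  ru : DeadS.{u} fun K _ => Spor.IsoRu K
  on : DeadS.{u} fun K _ => Spor.IsoON K
  ly : DeadS.{u} fun K _ => Spor.IsoLy K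
  fi22 : DeadS.{u} fun K _ => Spor.IsoFi22 K
  fi23 : DeadS.{u} fun K _ => Spor.IsoFi23 K
  fi24 : DeadS.{u} fun K _ => Spor.IsoFi24' K
  hn : DeadS.{u} fun K _ => Spor.IsoHN K
  th : DeadS.{u} fun K _ => Spor.IsoTh K
  b : DeadS.{u} fun K _ => Spor.IsoB K
  m : DeadS.{u} fun K _ => Spor.IsoM K

/-! ### fields -/

/-- a finite field has characteristic two or odd characteristic -/
theorem exists_char (F : Type) [Field F] [Fintype F] :
    ∃ p : ℕ, p.Prime ∧ CharP F p := by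
  obtain ⟨p, hp⟩ := CharP.exists F
  exact ⟨p, CharP.char_is_prime F p, hp⟩

theorem even_card (F : Type) [Field F] [Fintype F] [CharP F 2] : Even (Fintype.card F) := by
  obtain ⟨m, -, hm⟩ := FiniteField.card F 2
  rw [hm]
  exact (even_two).pow_of_ne_zero m.ne_zero

theorem ne_two_of_odd {F : Type} [Field F] [Fintype F] {p : ℕ} (hp : CharP F p) (h : Odd (Fintype.card F)) : p ≠ 2 := by
  rintro rfl
  exact (Nat.not_even_iff_odd.2 h) (even_card F)

variable {G : Type u} [Group G] [Finite G] {V K : Subgroup G}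

theorem odd_of (A : Rows.{u}) {p : ℕ} (hp : p.Prime) (h2 : p ≠ 2) (h : Cx V K) (hK : IsLieTypeChar p K) : False := by
  by_cases hE : PslEven K
  · exact A.psl V K h hE
  · exact A.odd p hp h2 V K h ⟨hK, hE⟩

theorem of_exc {L : Type u} [Group L] {p : ℕ} (h : IsExceptionalChevChar p L) : IsLieTypeChar p L :=
  Or.inr (Or.inr (Or.inr (Or.inr (Or.inr (Or.inr (Or.inl h))))))

theorem of_tw {L : Type u} [Group L] {p : ℕ} (h : IsTwistedE6D4Char p L) : IsLieTypeChar p L :=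
  Or.inr (Or.inr (Or.inr (Or.inr (Or.inr (Or.inr (Or.inr (Or.inl h)))))))

/-- exceptional groups -/
theorem exc (A : Rows.{u}) (h : Cx V K) (hK : IsExceptionalLieType K) : False := by
  rcases hK with hK | hK | hK | hK | hK | hK | hK | hK | hK | hK | hK
  · obtain ⟨F, iF, iT, h3, e⟩ := hK
    obtain ⟨p, hp, hc⟩ := exists_char F
    by_cases h2 : p = 2
    · subst h2
      refine A.g2 V K h ⟨F, iF, iT, hc, ?_, e⟩
      obtain ⟨r, hr⟩ := even_card F
      omega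
    · exact odd_of A hp h2 h (of_exc ⟨F, iF, iT, hc, Or.inl ⟨h3, e⟩⟩)
  · obtain ⟨F, iF, iT, e⟩ := hK
    obtain ⟨p, hp, hc⟩ := exists_char F
    by_cases h2 : p = 2
    · subst h2
      exact A.f4 V K h ⟨F, iF, iT, hc, e⟩
    · exact odd_of A hp h2 h (of_exc ⟨F, iF, iT, hc, Or.inr (Or.inl e)⟩)
  · obtain ⟨F, iF, iT, e⟩ := hK
    obtain ⟨p, hp, hc⟩ := exists_char F
    by_cases h2 : p = 2
    · subst h2
      exact A.e6 V K h ⟨F, iF, iT, hc, e⟩
    · exact odd_of A hp h2 h (of_exc ⟨F, iF, iT, hc, Or.inr (Or.inr (Or.inl e))⟩)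
  · obtain ⟨F, iF, iT, e⟩ := hK
    obtain ⟨p, hp, hc⟩ := exists_char F
    by_cases h2 : p = 2
    · subst h2
      exact A.e7 V K h ⟨F, iF, iT, hc, e⟩
    · exact odd_of A hp h2 h (of_exc ⟨F, iF, iT, hc, Or.inr (Or.inr (Or.inr (Or.inl e)))⟩)
  · obtain ⟨F, iF, iT, e⟩ := hK
    obtain ⟨p, hp, hc⟩ := exists_char F
    by_cases h2 : p = 2
    · subst h2
      exact A.e8 V K h ⟨F, iF, iT, hc, e⟩
    · exact odd_of A hp h2 h (of_exc ⟨F, iF, iT, hc, Or.inr (Or.inr (Or.inr (Or.inr e)))⟩)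
  · obtain ⟨F, iF, iT, q, hq, hF, e⟩ := hK
    obtain ⟨p, hp, hc⟩ := exists_char F
    by_cases h2 : p = 2
    · subst h2
      exact A.twE6 V K h ⟨F, iF, iT, hc, q, hq, hF, e⟩
    · exact odd_of A hp h2 h (of_tw ⟨F, iF, iT, hc, q, hq, Or.inl ⟨hF, e⟩⟩)
  · obtain ⟨F, iF, iT, q, hq, hF, e⟩ := hK
    obtain ⟨p, hp, hc⟩ := exists_char F
    by_cases h2 : p = 2
    · subst h2
      exact A.twD4 V K h ⟨F, iF, iT, hc, q, hq, hF, e⟩
    · exact odd_of A hp h2 h (of_tw ⟨F, iF, iT, hc, q, hq, Or.inr ⟨hF, e⟩⟩)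
  · exact A.sz V K h hK
  · exact odd_of A Nat.prime_three (by norm_num) h (Or.inr (Or.inr (Or.inr (Or.inr (Or.inr (Or.inr (Or.inr (Or.inr (Or.inr (Or.inr ⟨rfl, hK⟩))))))))))
  · exact A.twF4 V K h hK
  · exact A.tits V K h hK

/-- sporadic groups -/
theorem spor (A : Rows.{u}) (h : Cx V K) (hK : IsSporadicGroup K) : False := by
  rcases hK with hK | hK | hK | hK | hK | hK | hK | hK | hK | hK | hK | hK | hK | hK | hK | hK | hK | hK | hK | hK |
    hK | hK | hK | hK | hK | hK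
  · exact A.m11 V K h hK
  · exact A.m12 V K h hK
  · exact A.m22 V K h hK
  · exact A.m23 V K h hK
  · exact A.m24 V K h hK
  · exact A.j1 V K h hK
  · exact A.j2 V K h hK
  · exact A.j3 V K h hK
  · exact A.j4 V K h hK
  · exact A.co1 V K h hK
  · exact A.co2 V K h hK
  · exact A.co3 V K h hK
  · exact A.mcl V K h hK
  · exact A.hs V K h hK
  · exact A.suz V K h hK
  · exact A.he V K h hK
  · exact A.ru V K h hK
  · exact A.on V K h hK
  · exact A.ly V K h hK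
  · exact A.fi22 V K h hK
  · exact A.fi23 V K h hK
  · exact A.fi24 V K h hK
  · exact A.hn V K h hK
  · exact A.th V K h hK
  · exact A.b V K h hK
  · exact A.m V K h hK

/-- **The rows imply that there is no minimal counterexample.** -/
theorem cx_false (hcl : ∀ (L : Type u) [Group L] [Finite L] [IsSimpleGroup L], IsKnownSimple' L)
    (A : Rows.{u}) (h : Cx V K) : False := by
  have hs := h.simple
  have hk : IsKnownSimple' K := hcl K
  rcases hk with hK | hK | hK | hK | hK | hK | hK | hK | hK | hK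
  · have hp : Fact (Nat.card K).Prime := ⟨hK⟩
    have hc : IsCyclic K := isCyclic_of_prime_card rfl
    exact h.nonab ⟨⟨fun a b => hc.commGroup.mul_comm a b⟩⟩
  · exact A.alt V K h hK
  · obtain ⟨F, iF, iT, n, hn, h4, e⟩ := hK
    obtain ⟨p, hp, hc⟩ := exists_char F
    by_cases h2 : p = 2
    · subst h2
      exact A.psl V K h ⟨F, iF, iT, hc, n, hn, h4, e⟩
    · exact odd_of A hp h2 h (Or.inl ⟨F, iF, iT, hc, n, hn, h4, e⟩)
  · obtain ⟨F, iF, iT, m, hm, h3, e⟩ := hK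
    obtain ⟨p, hp, hc⟩ := exists_char F
    by_cases h2 : p = 2
    · subst h2
      refine A.psp V K h ⟨F, iF, iT, hc, m, hm, fun hm2 => ?_, e⟩
      have h5 := h3 hm2
      obtain ⟨r, hr⟩ := even_card F
      omega
    · exact odd_of A hp h2 h (Or.inr (Or.inl ⟨F, iF, iT, hc, m, hm, h3, e⟩))
  · obtain ⟨F, iF, iT, n, q, hF, hn, h3, e⟩ := hK
    obtain ⟨p, hp, hc⟩ := exists_char F
    by_cases h2 : p = 2
    · subst h2
      by_cases h4 : n = 4 ∧ q = 2
      · obtain ⟨rfl, rfl⟩ := h4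
        obtain ⟨e⟩ := e
        have : Fact (Nat.Prime 3) := ⟨Nat.prime_three⟩
        obtain ⟨k⟩ := Cfsg.Agent.S0822.result (F := F) (K := ZMod 3) (by rw [hF]; norm_num) (ZMod.card 3)
        exact odd_of A Nat.prime_three (by norm_num) h (Or.inr (Or.inl ⟨ZMod 3, inferInstance, inferInstance,
          inferInstance, 2, le_rfl, fun _ => by rw [ZMod.card], ⟨e.trans k⟩⟩))
      · refine A.psu V K h ⟨F, iF, iT, hc, n, q, hF, ?_, hn, h3, h4, e⟩
        have h5 := even_card F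
        rw [hF] at h5
        exact (Nat.even_pow.1 h5).1
    · exact odd_of A hp h2 h (Or.inr (Or.inr (Or.inl ⟨F, iF, iT, hc, n, q, hF, hn, h3, e⟩)))
  · obtain ⟨F, iF, iT, m, hm, ho, e⟩ := hK
    obtain ⟨p, hp, hc⟩ := exists_char F
    exact odd_of A hp (ne_two_of_odd hc ho) h (Or.inr (Or.inr (Or.inr (Or.inl ⟨F, iF, iT, hc, m, hm, ho, e⟩))))
  · obtain ⟨F, iF, iT, m, hm, e⟩ := hK
    obtain ⟨p, hp, hc⟩ := exists_char F
    by_cases h2 : p = 2
    · subst h2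
      exact A.plus V K h ⟨F, iF, iT, hc, m, hm, e⟩
    · exact odd_of A hp h2 h (Or.inr (Or.inr (Or.inr (Or.inr (Or.inl ⟨F, iF, iT, hc, m, hm, e⟩)))))
  · obtain ⟨F, iF, iT, m, a, b, hm, hab, e⟩ := hK
    obtain ⟨p, hp, hc⟩ := exists_char F
    by_cases h2 : p = 2
    · subst h2
      exact A.minus V K h ⟨F, iF, iT, hc, m, a, b, hm, hab, e⟩
    · exact odd_of A hp h2 h (Or.inr (Or.inr (Or.inr (Or.inr (Or.inr (Or.inl ⟨F, iF, iT, hc, m, a, b, hm, hab, e⟩))))))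
  · exact exc A h hK
  · exact spor A h hK

/-- **S3010 from the rows.** -/
theorem main (hcl : ∀ (L : Type u) [Group L] [Finite L] [IsSimpleGroup L], IsKnownSimple' L)
    (A : Rows.{u}) {G : Type u} [Group G] [Finite G] (V : Subgroup G) (hV : IsElementaryAbelian 2 V)
    (hV1 : V ≠ ⊥) (hS : IsSidkiPair V) : V ⊓ pCore 2 G ≠ ⊥ :=
  S3010_of (fun _ _ h => cx_false hcl A h) V hV hV1 hS

end Cfsg.Agent.H731.SK
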